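import Groth.Agent.Lib.FormalModH7.IndExt
import Groth.Agent.Lib.ModFlat16.ColimFT

/-!
# Maps from coherent modules into increasing unions factor through a stage
-/

set_option autoImplicit false
set_option linter.style.haveILetI false
set_option linter.unusedSectionVars false
set_option backward.isDefEq.respectTransparency false
set_option backward.isDefEq.respectTransparency.types false

universe u

open CategoryTheory CategoryTheory.Limits Opposite TopologicalSpace AlgebraicGeometry

noncomputable section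

namespace Groth.Agent.IndLan6

open ModFlat16 FormalModH7

theorem exists_fac {X : TopCat.{u}} [CompactSpace X] (hnoeth : ∀ V : Opens X, IsCompact (V : Set X))
    {O : Sheaf (Opens.grothendieckTopology X) CommRingCat.{u}} {I : Type u} [SmallCategory I] [IsFiltered I]
    (D : I ⥤ ModSite.Mod O) (c : Cocone D) (hc : IsColimit c) (hm : ∀ j, Mono (c.ι.app j))
    {K : ModSite.Mod O} [SheafOfModules.IsFiniteType (R := ModSite.ringSh O) K] (f : K ⟶ c.pt) :
    ∃ (j : I) (g : K ⟶ D.obj j), g ≫ c.ι.app j = f := by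
  classical
  obtain ⟨S, hS, h⟩ := covd_hasGens (M := K) (⊤ : Opens X)
  choose U k hk hxU using fun x : X => hS x (show x ∈ (⊤ : Opens X) from trivial)
  choose σ hσ s hs using fun x : X => h (k x) (hk x)
  obtain ⟨T, hT⟩ := isCompact_univ.elim_finite_subcover (fun x => (U x : Set X)) (fun x => (U x).2)
    fun x _ => Set.mem_iUnion.2 ⟨x, hxU x⟩
  letI : ∀ x, Fintype (σ x) := hσ
  obtain ⟨l, hl⟩ := exists_kill D c hc (𝟙 c.pt) (0 : c.pt ⟶ c.pt) (fun V y _ => ⟨y, rfl⟩)
    (T.sigma fun x => (Finset.univ : Finset (σ x))) (fun q => U q.1) (fun q => hnoeth _)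
    (fun q => f.val.app (op (U q.1)) (s q.1 q.2)) (fun q => rfl)
  have h0 : f ≫ qPi D c (𝟙 c.pt) l = 0 := by
    refine hom_ext_local fun V x y hy => ?_
    obtain ⟨x₀, hx₀T, hy₀⟩ := Set.mem_iUnion₂.1 (hT (Set.mem_univ y))
    let W : Opens X := V ⊓ U x₀
    obtain ⟨R, hR, h'⟩ := gens_apply (hs x₀) (homOfLE inf_le_right : W ⟶ U x₀) (smap K (homOfLE inf_le_left : W ⟶ V) x)
    obtain ⟨W', m, hm', hyW'⟩ := hR y ⟨hy, hy₀⟩
    obtain ⟨c', hc'⟩ := h' m hm'
    refine ⟨W', m.le.trans inf_le_left, hyW', ?_⟩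
    have e1 : smap K (homOfLE (m.le.trans inf_le_left) : W' ⟶ V) x = ∑ i, c' i • smap K (m ≫ homOfLE inf_le_right) (s x₀ i) := by
      rw [← hc', ← smap_comp]
      exact congrArg (fun q => smap K q x) (Subsingleton.elim _ _)
    rw [e1, app_sum, app_sum]
    refine Finset.sum_congr rfl fun i _ => ?_
    congr 1
    rw [app_smap, app_smap]
    congr 1
    exact hl ⟨x₀, i⟩ (Finset.mem_sigma.2 ⟨hx₀T, Finset.mem_univ i⟩) l (𝟙 l)
  haveI := hm l
  haveI : Mono (cmap D c l ≫ 𝟙 c.pt) := by rw [Category.comp_id]; exact hm l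
  refine ⟨l, (Abelian.monoIsKernelOfCokernel _ (cokernelIsCokernel (cmap D c l ≫ 𝟙 c.pt))).lift
    (KernelFork.ofι f h0), ?_⟩
  have := (Abelian.monoIsKernelOfCokernel _ (cokernelIsCokernel (cmap D c l ≫ 𝟙 c.pt))).fac
    (KernelFork.ofι f h0) WalkingParallelPair.zero
  simpa using this

end Groth.Agent.IndLan6
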