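import Mathlib

/-!
# Exactness of the left Kan extension along an ind-completion by monomorphisms
-/

set_option autoImplicit false
set_option linter.style.haveILetI false
set_option linter.unusedSectionVars false
set_option backward.isDefEq.respectTransparency false
set_option backward.isDefEq.respectTransparency.types false

universe w v u v' u'

open CategoryTheory CategoryTheory.Limits

noncomputable section

namespace Groth.Agent.IndLan6

variable {A : Type u} [Category.{v} A] [Abelian A] {P Q : ObjectProperty A} (h : P ≤ Q)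
  {A' : Type u'} [Category.{v'} A'] [Abelian A'] (G : P.FullSubcategory ⥤ A')
  [(ObjectProperty.ιOfLE h).HasPointwiseLeftKanExtension G]

/-- The left Kan extension. -/
abbrev Lan : Q.FullSubcategory ⥤ A' := (ObjectProperty.ιOfLE h).pointwiseLeftKanExtension G

/-- The component of a map from a small object. -/
def comp' {M : Q.FullSubcategory} (K : P.FullSubcategory) (f : K.obj ⟶ M.obj) : G.obj K ⟶ (Lan h G).obj M :=
  colimit.ι (CostructuredArrow.proj (ObjectProperty.ιOfLE h) M ⋙ G)
    (CostructuredArrow.mk (Y := K) (ObjectProperty.homMk f))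

theorem comp'_map {M N : Q.FullSubcategory} (K : P.FullSubcategory) (f : K.obj ⟶ M.obj) (φ : M ⟶ N) :
    comp' h G K f ≫ (Lan h G).map φ = comp' h G K (f ≫ φ.hom) := by
  dsimp only [comp', Functor.pointwiseLeftKanExtension]
  exact colimit.ι_desc _ _

theorem map_comp' {M : Q.FullSubcategory} {K K' : P.FullSubcategory} (a : K ⟶ K') (f : K'.obj ⟶ M.obj) :
    G.map a ≫ comp' h G K' f = comp' h G K (a.hom ≫ f) :=
  colimit.w (CostructuredArrow.proj (ObjectProperty.ιOfLE h) M ⋙ G)
    (show CostructuredArrow.mk (Y := K) (ObjectProperty.homMk (a.hom ≫ f) : (ObjectProperty.ιOfLE h).obj K ⟶ M) ⟶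
        CostructuredArrow.mk (Y := K') (ObjectProperty.homMk f : (ObjectProperty.ιOfLE h).obj K' ⟶ M) from
      CostructuredArrow.homMk a (ObjectProperty.hom_ext _ rfl))

theorem hom_ext' {M : Q.FullSubcategory} {Z : A'} {x y : (Lan h G).obj M ⟶ Z}
    (hxy : ∀ (K : P.FullSubcategory) (f : K.obj ⟶ M.obj), comp' h G K f ≫ x = comp' h G K f ≫ y) : x = y :=
  colimit.hom_ext fun j => hxy j.left j.hom.hom

/-- A presentation by small subobjects catching all maps. -/
structure Pres (M : A) (J : Type w) [Category.{w} J] where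
  diag : J ⥤ P.FullSubcategory
  ι : diag ⋙ P.ι ⟶ (Functor.const J).obj M
  mono : ∀ j, Mono (ι.app j)
  fac : ∀ (K : P.FullSubcategory) (f : K.obj ⟶ M), ∃ (j : J) (g : K.obj ⟶ (diag.obj j).obj), g ≫ ι.app j = f

variable {J : Type w} [Category.{w} J] [IsFiltered J] {M : Q.FullSubcategory} (D : Pres (P := P) M.obj J)

/-- The cocone of the extension. -/
def cocone : Cocone (D.diag ⋙ G) :=
  Cocone.mk ((Lan h G).obj M)
    { app := fun j => comp' h G (D.diag.obj j) (D.ι.app j)
      naturality := fun i j g => by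
        dsimp
        rw [Category.comp_id, map_comp' h G (D.diag.map g) (D.ι.app j)]
        exact congrArg (comp' h G _) ((D.ι.naturality g).trans (Category.comp_id _)) }

theorem factor_unique (s : Cocone (D.diag ⋙ G)) {K : P.FullSubcategory} {i j : J}
    (a : K ⟶ D.diag.obj i) (b : K ⟶ D.diag.obj j) (hab : a.hom ≫ D.ι.app i = b.hom ≫ D.ι.app j) :
    G.map a ≫ s.ι.app i = G.map b ≫ s.ι.app j := by
  obtain ⟨k, p, q, -⟩ := IsFilteredOrEmpty.cocone_objs i j
  have e : a ≫ D.diag.map p = b ≫ D.diag.map q := by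
    apply ObjectProperty.hom_ext
    haveI := D.mono k
    rw [← cancel_mono (D.ι.app k)]
    have hp : (D.diag.map p).hom ≫ D.ι.app k = D.ι.app i := (D.ι.naturality p).trans (Category.comp_id _)
    have hq : (D.diag.map q).hom ≫ D.ι.app k = D.ι.app j := (D.ι.naturality q).trans (Category.comp_id _)
    simp only [ObjectProperty.FullSubcategory.comp_hom, Category.assoc, hp, hq, hab]
  have hp' : G.map (D.diag.map p) ≫ s.ι.app k = s.ι.app i := s.w p
  have hq' : G.map (D.diag.map q) ≫ s.ι.app k = s.ι.app j := s.w q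
  rw [← hp', ← hq', ← Category.assoc, ← Category.assoc, ← G.map_comp, ← G.map_comp, e]

/-- The extension is computed by a presentation. -/
def isColimit : IsColimit (cocone h G D) where
  desc s := colimit.desc (CostructuredArrow.proj (ObjectProperty.ιOfLE h) M ⋙ G) (Cocone.mk s.pt
    { app := fun x => G.map (ObjectProperty.homMk (Classical.choose (Classical.choose_spec (D.fac x.left x.hom.hom)))) ≫
        s.ι.app (Classical.choose (D.fac x.left x.hom.hom))
      naturality := fun x y φ => by
        dsimp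
        rw [Category.comp_id, ← Category.assoc, ← G.map_comp]
        refine factor_unique G D s _ _ ?_
        simp only [ObjectProperty.FullSubcategory.comp_hom, Category.assoc]
        erw [Classical.choose_spec (Classical.choose_spec (D.fac y.left y.hom.hom)),
          Classical.choose_spec (Classical.choose_spec (D.fac x.left x.hom.hom))]
        exact congrArg InducedCategory.Hom.hom (CostructuredArrow.w φ) })
  fac s j := by
    refine (colimit.ι_desc _ _).trans ?_
    show G.map _ ≫ s.ι.app _ = _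
    refine (factor_unique G D s (K := D.diag.obj j) (i := Classical.choose (D.fac (D.diag.obj j) (D.ι.app j)))
      (ObjectProperty.homMk (Classical.choose (Classical.choose_spec (D.fac (D.diag.obj j) (D.ι.app j)))))
      (𝟙 (D.diag.obj j)) ?_).trans ?_
    · erw [Classical.choose_spec (Classical.choose_spec (D.fac (D.diag.obj j) (D.ι.app j)))]
      exact (Category.id_comp _).symm
    · erw [G.map_id, Category.id_comp]
  uniq s m hm := by
    refine hom_ext' h G fun K f => ?_
    dsimp only [comp']
    rw [colimit.ι_desc]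
    dsimp
    obtain hg := Classical.choose_spec (Classical.choose_spec (D.fac K f))
    rw [← hm]
    show comp' h G K f ≫ m = _ ≫ comp' h G _ _ ≫ m
    rw [← Category.assoc, map_comp' h G]
    exact congrArg (fun q => comp' h G K q ≫ m) hg.symm

theorem additive [G.Additive]
    (hpres : ∀ M : Q.FullSubcategory, ∃ (J : Type w) (_ : Category.{w} J) (_ : IsFiltered J), Nonempty (Pres (P := P) M.obj J)) :
    (Lan h G).Additive where
  map_add {M N φ ψ} := by
    refine hom_ext' h G fun K f => ?_
    rw [Preadditive.comp_add, comp'_map, comp'_map, comp'_map]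
    obtain ⟨J, _, _, ⟨D⟩⟩ := hpres N
    obtain ⟨i, a, ha⟩ := D.fac K (f ≫ φ.hom)
    obtain ⟨j, b, hb⟩ := D.fac K (f ≫ ψ.hom)
    obtain ⟨k, p, q, -⟩ := IsFilteredOrEmpty.cocone_objs i j
    have hp : (D.diag.map p).hom ≫ D.ι.app k = D.ι.app i := (D.ι.naturality p).trans (Category.comp_id _)
    have hq : (D.diag.map q).hom ≫ D.ι.app k = D.ι.app j := (D.ι.naturality q).trans (Category.comp_id _)
    let a' : K ⟶ D.diag.obj k := ObjectProperty.homMk a ≫ D.diag.map p
    let b' : K ⟶ D.diag.obj k := ObjectProperty.homMk b ≫ D.diag.map q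
    have e1 : a'.hom ≫ D.ι.app k = f ≫ φ.hom := by simp [a', hp, ha]
    have e2 : b'.hom ≫ D.ι.app k = f ≫ ψ.hom := by simp [b', hq, hb]
    have e3 : f ≫ (φ + ψ).hom = (a' + b').hom ≫ D.ι.app k := by
      show f ≫ (φ.hom + ψ.hom) = (a'.hom + b'.hom) ≫ D.ι.app k
      rw [Preadditive.comp_add, Preadditive.add_comp, e1, e2]
    rw [← e1, ← e2, e3, ← map_comp' h G a', ← map_comp' h G b', ← map_comp' h G (a' + b'), G.map_add,
      Preadditive.add_comp]

section Exact

variable [P.ContainsZero] [P.IsClosedUnderKernels] [P.IsClosedUnderCokernels] [P.IsClosedUnderFiniteProducts]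
  [PreservesFiniteLimits G] [PreservesFiniteColimits G]

instance isClosedUnderIso : P.IsClosedUnderIsomorphisms where
  of_iso {X Y} e hX := P.prop_of_isLimit_kernelFork
    (IsLimit.ofIsoLimit (KernelFork.IsLimit.ofId (0 : X ⟶ X) rfl)
      (Fork.ext (t := KernelFork.ofι (f := (0 : X ⟶ X)) e.inv comp_zero) e (e.hom_inv_id))) hX hX

include h in
theorem map_shortExact_small [G.Additive] (S : ShortComplex P.FullSubcategory) (hS : (S.map P.ι).ShortExact) :
    (S.map G).ShortExact := by
  haveI : Mono (S.map P.ι).f := hS.mono_f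
  haveI : Epi (S.map P.ι).g := hS.epi_g
  haveI : S.map P.ι |>.f |> Mono := hS.mono_f
  have hk : IsLimit (KernelFork.ofι S.f S.zero) :=
    isLimitOfReflects P.ι ((KernelFork.isLimitMapConeEquiv _ P.ι).symm hS.exact.fIsKernel)
  have hc : IsColimit (CokernelCofork.ofπ S.g S.zero) :=
    isColimitOfReflects P.ι ((CokernelCofork.isColimitMapCoconeEquiv _ P.ι).symm hS.exact.gIsCokernel)
  have hk' := KernelFork.mapIsLimit _ hk G
  have hc' := CokernelCofork.mapIsColimit _ hc G
  refine { exact := (S.map G).exact_of_f_is_kernel hk', mono_f := ?_, epi_g := ?_ }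
  · exact Fork.IsLimit.mono hk'
  · exact Cofork.IsColimit.epi hc'

variable [HasColimitsOfShape J A] [HasExactColimitsOfShape J A] [HasColimitsOfShape J A'] [HasExactColimitsOfShape J A']

theorem shortExact_map [G.Additive] [(Lan h G).Additive] (S : ShortComplex Q.FullSubcategory) (hS : (S.map Q.ι).ShortExact)
    (D : Pres (P := P) S.X₂.obj J) (hD : IsColimit (Cocone.mk S.X₂.obj D.ι))
    (hker : ∀ j, P (kernel (D.ι.app j ≫ S.g.hom)))
    (hcompact : ∀ (E : J ⥤ A) (c : Cocone E) (_ : IsColimit c) (_ : ∀ j, Mono (c.ι.app j))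
      (K : P.FullSubcategory) (f : K.obj ⟶ c.pt), ∃ (j : J) (g : K.obj ⟶ E.obj j), g ≫ c.ι.app j = f) :
    (S.map (Lan h G)).ShortExact := by
  haveI : Mono S.f.hom := hS.mono_f
  haveI : Epi S.g.hom := hS.epi_g
  haveI : Mono (S.map Q.ι).f := hS.mono_f
  haveI : IsConnected J := IsFiltered.isConnected J
  let γ : D.diag ⋙ P.ι ⟶ (Functor.const J).obj S.X₃.obj :=
    { app := fun j => D.ι.app j ≫ S.g.hom
      naturality := fun i j g => by
        show (D.diag.map g).hom ≫ D.ι.app j ≫ S.g.hom = (D.ι.app i ≫ S.g.hom) ≫ 𝟙 _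
        rw [← Category.assoc, show (D.diag.map g).hom ≫ D.ι.app j = D.ι.app i from
          (D.ι.naturality g).trans (Category.comp_id _), Category.comp_id] }
  let E₁ : J ⥤ P.FullSubcategory := P.lift (kernel γ) fun j =>
    P.prop_of_iso (PreservesKernel.iso ((evaluation J A).obj j) γ).symm (hker j)
  let D₂ := D.diag ⋙ P.ι
  let R := cokernel (kernel.ι γ)
  have hR : ∀ j, P (R.obj j) := fun j =>
    P.prop_of_iso (PreservesCokernel.iso ((evaluation J A).obj j) (kernel.ι γ)).symm
      (P.prop_of_isColimit_cokernelCofork (colimit.isColimit (parallelPair (((evaluation J A).obj j).map (kernel.ι γ)) 0)) (E₁.obj j).property (D.diag.obj j).property)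
  let E₃ : J ⥤ P.FullSubcategory := P.lift R hR
  let a : E₁ ⟶ D.diag :=
    { app := fun j => ObjectProperty.homMk ((kernel.ι γ).app j)
      naturality := fun i j g => ObjectProperty.hom_ext _ ((kernel.ι γ).naturality g) }
  let b : D.diag ⟶ E₃ :=
    { app := fun j => ObjectProperty.homMk ((cokernel.π (kernel.ι γ)).app j)
      naturality := fun i j g => ObjectProperty.hom_ext _ ((cokernel.π (kernel.ι γ)).naturality g) }
  let T : ShortComplex (J ⥤ A) := ShortComplex.mk (kernel.ι γ) (cokernel.π (kernel.ι γ)) (cokernel.condition _)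
  have hT : T.ShortExact :=
    { exact := T.exact_of_g_is_cokernel (cokernelIsCokernel _), mono_f := inferInstanceAs (Mono (kernel.ι γ)),
      epi_g := inferInstanceAs (Epi (cokernel.π (kernel.ι γ))) }
  let δ : R ⟶ (Functor.const J).obj S.X₃.obj := cokernel.desc _ γ (kernel.condition γ)
  haveI : Mono δ := by
    have : δ = (Abelian.coimageIsoImage γ).hom ≫ Abelian.image.ι γ := by
      refine (cancel_epi (cokernel.π (kernel.ι γ))).1 ?_
      simp [δ]
    rw [this]
    infer_instance
  let α : kernel γ ⟶ (Functor.const J).obj S.X₁.obj :=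
    { app := fun j => hS.exact.lift ((kernel.ι γ).app j ≫ D.ι.app j) (by
        show ((kernel.ι γ).app j ≫ D.ι.app j) ≫ S.g.hom = 0
        rw [Category.assoc]
        exact congrArg (fun q => q.app j) (kernel.condition γ))
      naturality := fun i j g => by
        rw [← cancel_mono S.f.hom]
        have X : (kernel γ).map g ≫ (kernel.ι γ).app j ≫ D.ι.app j = (kernel.ι γ).app i ≫ D.ι.app i := by
          rw [← Category.assoc, (kernel.ι γ).naturality, Category.assoc]
          exact congrArg ((kernel.ι γ).app i ≫ ·) ((D.ι.naturality g).trans (Category.comp_id _))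
        exact (Category.assoc _ _ _).trans (((congrArg ((kernel γ).map g ≫ ·) (hS.exact.lift_f _ _)).trans X).trans
          ((congrArg (· ≫ S.f.hom) (Category.comp_id _)).trans (hS.exact.lift_f _ _)).symm) }
  have hαf : ∀ j, α.app j ≫ S.f.hom = (kernel.ι γ).app j ≫ D.ι.app j := fun j => hS.exact.lift_f _ _
  have hmα : ∀ j, Mono (α.app j) := fun j => by
    haveI := D.mono j
    haveI : Mono (α.app j ≫ S.f.hom) := by rw [hαf]; infer_instance
    exact mono_of_mono _ S.f.hom
  -- the three cocones
  have hsq2 : colimMap (cokernel.π (kernel.ι γ)) ≫ colimit.desc R (Cocone.mk S.X₃.obj δ) =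
      colimit.desc D₂ (Cocone.mk S.X₂.obj D.ι) ≫ S.g.hom := by
    refine colimit.hom_ext fun j => ?_
    refine (ι_colimMap_assoc (cokernel.π (kernel.ι γ)) j _).trans ?_
    refine Eq.trans ?_ (colimit.ι_desc_assoc (Cocone.mk S.X₂.obj D.ι) j _).symm
    refine (congrArg ((cokernel.π (kernel.ι γ)).app j ≫ ·) (colimit.ι_desc (Cocone.mk S.X₃.obj δ) j)).trans ?_
    exact congrArg (fun q => q.app j) (cokernel.π_desc (kernel.ι γ) γ (kernel.condition γ))
  have hsq1 : colimMap (kernel.ι γ) ≫ colimit.desc D₂ (Cocone.mk S.X₂.obj D.ι) =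
      colimit.desc (kernel γ) (Cocone.mk S.X₁.obj α) ≫ S.f.hom := by
    refine colimit.hom_ext fun j => ?_
    refine (ι_colimMap_assoc (kernel.ι γ) j _).trans ?_
    refine Eq.trans ?_ (colimit.ι_desc_assoc (Cocone.mk S.X₁.obj α) j _).symm
    refine (congrArg ((kernel.ι γ).app j ≫ ·) (colimit.ι_desc (Cocone.mk S.X₂.obj D.ι) j)).trans ?_
    exact (hαf j).symm
  have hT' := hT.map_of_exact (colim : (J ⥤ A) ⥤ A)
  let φ : T.map (colim : (J ⥤ A) ⥤ A) ⟶ S.map Q.ι :=
    { τ₁ := colimit.desc (kernel γ) (Cocone.mk S.X₁.obj α)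
      τ₂ := colimit.desc D₂ (Cocone.mk S.X₂.obj D.ι)
      τ₃ := colimit.desc R (Cocone.mk S.X₃.obj δ)
      comm₁₂ := hsq1.symm
      comm₂₃ := hsq2.symm }
  haveI h2 : IsIso φ.τ₂ :=
    inferInstanceAs (IsIso ((colimit.isColimit D₂).coconePointUniqueUpToIso hD).hom)
  haveI : Epi φ.τ₃ := epi_of_epi_fac (hsq2.trans rfl)
  haveI : Mono φ.τ₃ := by
    have e : colimit.desc R (Cocone.mk S.X₃.obj δ) = colimMap δ ≫ colimit.desc _ (Cocone.mk S.X₃.obj (𝟙 ((Functor.const J).obj S.X₃.obj))) := by
      refine colimit.hom_ext fun j => ?_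
      simp
    haveI : Mono (colimMap δ) := inferInstanceAs (Mono ((colim : (J ⥤ A) ⥤ A).map δ))
    haveI : IsIso (colimit.desc _ (Cocone.mk S.X₃.obj (𝟙 ((Functor.const J).obj S.X₃.obj)))) :=
      inferInstanceAs (IsIso ((colimit.isColimit _).coconePointUniqueUpToIso (isColimitConstCocone J S.X₃.obj)).hom)
    show Mono (colimit.desc R (Cocone.mk S.X₃.obj δ))
    rw [e]
    infer_instance
  haveI h3 : IsIso φ.τ₃ := isIso_of_mono_of_epi _
  haveI hmf : Mono (T.map (colim : (J ⥤ A) ⥤ A)).f := hT'.mono_f
  haveI h1m : Mono φ.τ₁ := by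
    haveI : Mono (φ.τ₁ ≫ (S.map Q.ι).f) := by rw [φ.comm₁₂]; infer_instance
    exact mono_of_mono _ (S.map Q.ι).f
  let s := hT'.exact.lift ((S.map Q.ι).f ≫ inv φ.τ₂) (by
    rw [← cancel_mono φ.τ₃]
    simp only [Category.assoc, ← φ.comm₂₃, IsIso.inv_hom_id_assoc, ShortComplex.zero, zero_comp])
  haveI h1e : IsSplitEpi φ.τ₁ := IsSplitEpi.mk' ⟨s, by
    rw [← cancel_mono (S.map Q.ι).f, Category.assoc, φ.comm₁₂, hT'.exact.lift_f_assoc, Category.assoc, IsIso.inv_hom_id]
    simp⟩
  haveI h1 : IsIso φ.τ₁ := isIso_of_mono_of_epi _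
  haveI : IsIso ((colimit.isColimit (kernel γ)).desc (Cocone.mk S.X₁.obj α)) := h1
  haveI : IsIso ((colimit.isColimit R).desc (Cocone.mk S.X₃.obj δ)) := h3
  have hc1 : IsColimit (Cocone.mk S.X₁.obj α) := IsColimit.ofPointIso (colimit.isColimit _)
  have hc3 : IsColimit (Cocone.mk S.X₃.obj δ) := IsColimit.ofPointIso (colimit.isColimit _)
  let D1 : Pres (P := P) S.X₁.obj J :=
    { diag := E₁, ι := α, mono := hmα, fac := fun K f => hcompact _ _ hc1 hmα K f }
  have hmδ : ∀ j, Mono (δ.app j) := fun j => inferInstance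
  let D3 : Pres (P := P) S.X₃.obj J :=
    { diag := E₃, ι := δ, mono := hmδ, fac := fun K f => hcompact _ _ hc3 hmδ K f }
  -- the image
  let U : ShortComplex (J ⥤ A') := ShortComplex.mk (Functor.whiskerRight a G) (Functor.whiskerRight b G) (by
    ext j
    show G.map (a.app j) ≫ G.map (b.app j) = 0
    rw [← G.map_comp]
    have : a.app j ≫ b.app j = 0 := ObjectProperty.hom_ext _ (congrArg (fun q => q.app j) (cokernel.condition (kernel.ι γ)))
    rw [this, G.map_zero])
  have hUj : ∀ j, (U.map ((evaluation J A').obj j)).ShortExact := fun j =>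
    map_shortExact_small h G (ShortComplex.mk (a.app j) (b.app j)
      (ObjectProperty.hom_ext _ (congrArg (fun q => q.app j) (cokernel.condition (kernel.ι γ)))))
      (hT.map_of_exact ((evaluation J A).obj j))
  have hU : U.ShortExact :=
    { exact := by
        rw [ShortComplex.exact_iff_isZero_homology, Functor.isZero_iff]
        intro j
        exact ((U.map ((evaluation J A').obj j)).exact_iff_isZero_homology.1 (hUj j).exact).of_iso
          (U.mapHomologyIso ((evaluation J A').obj j)).symm
      mono_f := by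
        haveI : ∀ j, Mono (U.f.app j) := fun j => (hUj j).mono_f
        exact NatTrans.mono_of_mono_app _
      epi_g := by
        haveI : ∀ j, Epi (U.g.app j) := fun j => (hUj j).epi_g
        exact NatTrans.epi_of_epi_app _ }
  refine ShortComplex.shortExact_of_iso ?_ (hU.map_of_exact (colim : (J ⥤ A') ⥤ A'))
  refine ShortComplex.isoMk ((colimit.isColimit _).coconePointUniqueUpToIso (isColimit h G D1))
    ((colimit.isColimit _).coconePointUniqueUpToIso (isColimit h G D))
    ((colimit.isColimit _).coconePointUniqueUpToIso (isColimit h G D3)) ?_ ?_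
  · refine colimit.hom_ext fun j => ?_
    refine (colimit.comp_coconePointUniqueUpToIso_hom_assoc (isColimit h G D1) j _).trans ?_
    show comp' h G (E₁.obj j) (α.app j) ≫ (Lan h G).map S.f = _
    rw [comp'_map]
    erw [ι_colimMap_assoc, colimit.comp_coconePointUniqueUpToIso_hom (isColimit h G D) j]
    show _ = G.map (a.app j) ≫ comp' h G (D.diag.obj j) (D.ι.app j)
    rw [map_comp']
    exact congrArg (comp' h G _) (hαf j)
  · refine colimit.hom_ext fun j => ?_
    refine (colimit.comp_coconePointUniqueUpToIso_hom_assoc (isColimit h G D) j _).trans ?_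
    show comp' h G (D.diag.obj j) (D.ι.app j) ≫ (Lan h G).map S.g = _
    rw [comp'_map]
    erw [ι_colimMap_assoc, colimit.comp_coconePointUniqueUpToIso_hom (isColimit h G D3) j]
    show _ = G.map (b.app j) ≫ comp' h G (E₃.obj j) (δ.app j)
    rw [map_comp']
    exact congrArg (comp' h G _) (congrArg (fun q => q.app j) (cokernel.π_desc (kernel.ι γ) γ (kernel.condition γ))).symm

end Exact

end Groth.Agent.IndLan6
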